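/-
Lifting generators from the associated graded module over an adically complete ring.
-/
import Groth.Prelude.Def_AssocGrMod
import Mathlib.RingTheory.AdicCompletion.Basic
import Mathlib.RingTheory.Finiteness.Basic

set_option autoImplicit false

universe u

namespace Groth.Agent.AdicGr3

variable {A : Type u} [CommRing A] {I : Ideal A} {M : Type u} [AddCommGroup M] [Module A M] (F : I.Filtration M)

/-- Initial forms in degree-indexed form of the elements of a submodule. -/
def initSet (P : Submodule A M) : Set (AssocGr.GrMod F) :=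
  {z | ∃ (n : ℕ) (y : F.N n), (y : M) ∈ P ∧ z = (AssocGr.inDegM F n y : AssocGr.GrMod F)}

theorem span_initSet_top : Submodule.span (AssocGr.GrRing (FiltBl.IdealFiltration.adic I)) (initSet F ⊤) = ⊤ := by
  refine Submodule.eq_top_iff'.2 fun z => ?_
  obtain ⟨y, rfl⟩ := AssocGr.mkGM_surjective F z
  rw [← AssocGr.sum_termM F y, map_sum]
  refine Submodule.sum_mem _ fun n _ => Submodule.subset_span ⟨n, ⟨_, AssocGr.ReesM.coeff_mem F y n⟩, trivial, ?_⟩
  exact (AssocGr.coe_inDegM F n _).symm

theorem exists_step {k : ℕ} (d : Fin k → ℕ) (x : (i : Fin k) → F.N (d i)) (n : ℕ) (y : F.N n)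
    (hy : (AssocGr.inDegM F n y : AssocGr.GrMod F) ∈ Submodule.span (AssocGr.GrRing (FiltBl.IdealFiltration.adic I))
      (Set.range fun i => (AssocGr.inDegM F (d i) (x i) : AssocGr.GrMod F))) :
    ∃ a : Fin k → A, (∀ i, a i ∈ I ^ (n - d i)) ∧ (y : M) - ∑ i, a i • (x i : M) ∈ F.N (n + 1) := by
  classical
  obtain ⟨r, hr⟩ := (Submodule.mem_span_range_iff_exists_fun _).1 hy
  have hf : ∀ i, ∃ f, AssocGr.mkG (FiltBl.IdealFiltration.adic I) f = r i := fun i => AssocGr.mkG_surjective _ (r i)
  choose f hf using hf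
  simp only [← hf, AssocGr.coe_inDegM, AssocGr.mkG_smul_mkGM, ← map_sum] at hr
  rw [← sub_eq_zero, ← map_sub, AssocGr.mkGM_eq_zero_iff, AssocGr.mem_succMod_iff] at hr
  have h := hr n
  simp only [← AssocGr.ReesM.coeffHom_apply, map_sub, map_sum] at h
  simp only [AssocGr.ReesM.coeffHom_apply, AssocGr.ReesM.coeff_monomM, if_pos] at h
  have key : ∀ i, AssocGr.ReesM.coeff F (f i • AssocGr.monomM F (d i) (x i)) n =
      (if d i ≤ n then ((f i : Polynomial A).coeff (n - d i)) else 0) • (x i : M) := fun i => by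
    rw [AssocGr.ReesM.coeff_smul]
    by_cases hd : d i ≤ n
    · rw [if_pos hd, Finset.sum_eq_single (n - d i, d i)]
      · rw [AssocGr.ReesM.coeff_monomM, if_pos rfl]
      · rintro ⟨p, q⟩ hpq hne
        rw [Finset.mem_antidiagonal] at hpq
        rw [AssocGr.ReesM.coeff_monomM, if_neg, smul_zero]
        intro hq; exact hne (by simp only at hpq hq; subst hq; congr 1; omega)
      · intro hp; exact (hp (Finset.mem_antidiagonal.2 (by simp only; omega))).elim
    · rw [if_neg hd, zero_smul]
      refine Finset.sum_eq_zero fun p hp => ?_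
      rw [Finset.mem_antidiagonal] at hp
      rw [AssocGr.ReesM.coeff_monomM, if_neg (by omega), smul_zero]
  simp only [key] at h
  refine ⟨fun i => if d i ≤ n then (f i : Polynomial A).coeff (n - d i) else 0, fun i => ?_, ?_⟩
  · dsimp only
    split_ifs with hd
    · exact (f i).2 (n - d i)
    · exact zero_mem _
  · rw [← neg_sub]; exact neg_mem h

/-- If the initial forms of all elements of `P` lie in the span of those of finitely many `xᵢ ∈ P` then `P` is
contained in their span. -/
theorem le_span_of_initSet_le [IsPrecomplete I A] (hsep : ⨅ n, F.N n = ⊥) (h0 : F.N 0 = ⊤) (P : Submodule A M)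
    {k : ℕ} (d : Fin k → ℕ) (x : (i : Fin k) → F.N (d i)) (hxP : ∀ i, (x i : M) ∈ P)
    (hspan : initSet F P ⊆ Submodule.span (AssocGr.GrRing (FiltBl.IdealFiltration.adic I))
      (Set.range fun i => (AssocGr.inDegM F (d i) (x i) : AssocGr.GrMod F))) :
    P ≤ Submodule.span A (Set.range fun i => (x i : M)) := by
  classical
  intro y hy
  have step : ∀ (n : ℕ) (z : M), ∃ a : Fin k → A, z ∈ P → z ∈ F.N n →
      (∀ i, a i ∈ I ^ (n - d i)) ∧ z - ∑ i, a i • (x i : M) ∈ P ∧ z - ∑ i, a i • (x i : M) ∈ F.N (n + 1) := by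
    intro n z
    by_cases hz : z ∈ P ∧ z ∈ F.N n
    · obtain ⟨a, ha, ha'⟩ := exists_step F d x n ⟨z, hz.2⟩ (hspan ⟨n, ⟨z, hz.2⟩, hz.1, rfl⟩)
      exact ⟨a, fun _ _ => ⟨ha, sub_mem hz.1 (sum_mem fun i _ => P.smul_mem _ (hxP i)), ha'⟩⟩
    · exact ⟨0, fun h1 h2 => (hz ⟨h1, h2⟩).elim⟩
  choose a ha using step
  let z : ℕ → M := fun n => Nat.rec y (fun m zm => zm - ∑ i, a m zm i • (x i : M)) n
  have hz : ∀ n, z n ∈ P ∧ z n ∈ F.N n := fun n => by
    induction n with
    | zero => exact ⟨hy, h0 ▸ trivial⟩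
    | succ m ih => exact (ha m _ ih.1 ih.2).2
  let s : ℕ → Fin k → A := fun n i => ∑ j ∈ Finset.range n, a j (z j) i
  have hzs : ∀ n, z n = y - ∑ i, s n i • (x i : M) := fun n => by
    induction n with
    | zero => simp [s, z]
    | succ m ih =>
      change z m - ∑ i, a m (z m) i • (x i : M) = _
      simp only [s, Finset.sum_range_succ, add_smul, Finset.sum_add_distrib]
      conv_lhs => arg 1; rw [ih]
      simp only [s]; abel
  have hinc : ∀ i m n, m ≤ n → s m i - s n i ∈ I ^ (m - d i) := fun i m n hmn => by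
    have : s n i = s m i + ∑ j ∈ Finset.Ico m n, a j (z j) i := (Finset.sum_range_add_sum_Ico _ hmn).symm
    rw [this, sub_add_cancel_left, neg_mem_iff]
    exact sum_mem fun j hj => Ideal.pow_le_pow_right (by have := (Finset.mem_Ico.1 hj).1; omega)
      ((ha j _ (hz j).1 (hz j).2).1 i)
  have hlim : ∀ i, ∃ L : A, ∀ m, s (m + d i) i - L ∈ I ^ m := fun i => by
    obtain ⟨L, hL⟩ := IsPrecomplete.prec (I := I) (M := A) inferInstance (f := fun m => s (m + d i) i) fun {m n} hmn => by
      rw [SModEq.sub_mem, smul_eq_mul, Ideal.mul_top]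
      simpa using hinc i (m + d i) (n + d i) (by omega)
    refine ⟨L, fun m => ?_⟩
    have := hL m
    rwa [SModEq.sub_mem, smul_eq_mul, Ideal.mul_top] at this
  choose L hL using hlim
  have hyL : y - ∑ i, L i • (x i : M) ∈ ⨅ n, F.N n := by
    rw [Submodule.mem_iInf]
    intro n
    have h1 : y - ∑ i, L i • (x i : M) = z n + ∑ i, (s n i - L i) • (x i : M) := by
      simp only [hzs, sub_smul, Finset.sum_sub_distrib]; abel
    rw [h1]
    refine add_mem (hz n).2 (sum_mem fun i _ => ?_)
    by_cases hd : d i ≤ n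
    · have h2 := hL i (n - d i)
      rw [Nat.sub_add_cancel hd] at h2
      have h3 := F.pow_smul_le (n - d i) (d i) (Submodule.smul_mem_smul h2 (x i).2)
      rwa [Nat.sub_add_cancel hd] at h3
    · exact Submodule.smul_mem _ _ (F.antitone (by omega) (x i).2)
  rw [hsep, Submodule.mem_bot, sub_eq_zero] at hyL
  rw [hyL]
  exact sum_mem fun i _ => Submodule.smul_mem _ _ (Submodule.subset_span ⟨i, rfl⟩)

theorem exists_gens_of_fg (P : Submodule A M)
    (h : (Submodule.span (AssocGr.GrRing (FiltBl.IdealFiltration.adic I)) (initSet F P)).FG) :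
    ∃ (k : ℕ) (d : Fin k → ℕ) (x : (i : Fin k) → F.N (d i)), (∀ i, (x i : M) ∈ P) ∧
      Submodule.span (AssocGr.GrRing (FiltBl.IdealFiltration.adic I)) (initSet F P) =
        Submodule.span (AssocGr.GrRing (FiltBl.IdealFiltration.adic I))
          (Set.range fun i => (AssocGr.inDegM F (d i) (x i) : AssocGr.GrMod F)) := by
  classical
  obtain ⟨T, hT, hTspan⟩ := (Submodule.fg_span_iff_fg_span_finset_subset _).1 h
  obtain ⟨k, e, he⟩ : ∃ (k : ℕ) (e : Fin k → AssocGr.GrMod F), Set.range e = (T : Set _) :=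
    ⟨T.card, fun i => (T.equivFin.symm i : AssocGr.GrMod F), by
      rw [← Function.comp_def, T.equivFin.symm.surjective.range_comp]; exact Subtype.range_coe⟩
  have hmem : ∀ i, e i ∈ initSet F P := fun i => hT (he ▸ ⟨i, rfl⟩ : e i ∈ (T : Set _))
  choose d x hxP hx using hmem
  exact ⟨k, d, x, hxP, by rw [hTspan, ← he]; congr 1; exact congrArg Set.range (funext hx)⟩

theorem fg_of_fg_initSet [IsPrecomplete I A] (hsep : ⨅ n, F.N n = ⊥) (h0 : F.N 0 = ⊤) (P : Submodule A M)
    (h : (Submodule.span (AssocGr.GrRing (FiltBl.IdealFiltration.adic I)) (initSet F P)).FG) : P.FG := by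
  classical
  obtain ⟨k, d, x, hxP, hx⟩ := exists_gens_of_fg F P h
  refine ⟨Finset.univ.image fun i => (x i : M), le_antisymm ?_ ?_⟩
  · rw [Submodule.span_le]; simpa [Set.range_subset_iff] using hxP
  · simpa using le_span_of_initSet_le F hsep h0 P d x hxP (hx ▸ Submodule.subset_span)

end Groth.Agent.AdicGr3
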